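import Groth.Agent.GaChar.MulCocycle
import Mathlib.Algebra.CharP.Quotient
import Mathlib.Algebra.MvPolynomial.CommRing
import Mathlib.FieldTheory.PerfectClosure
import Mathlib.RingTheory.AdjoinRoot
import Mathlib.RingTheory.Flat.FaithfullyFlat.Basic
import Mathlib.RingTheory.RingHom.FaithfullyFlat
import Mathlib.RingTheory.RingHom.FinitePresentation

/-!
# Finite free covers adjoining `p`-th roots, and splittings of cocycles after such a cover
-/

set_option autoImplicit false

universe u

noncomputable section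

namespace Groth.Agent.GaExtP

variable (p : ℕ) [hp : Fact p.Prime]

/-- Faithfully flat maps of finite presentation. -/
def IsCov {R R' : Type u} [CommRing R] [CommRing R'] (φ : R →+* R') : Prop :=
  φ.FaithfullyFlat ∧ φ.FinitePresentation

variable {R : Type u} [CommRing R]

theorem isCov_id : IsCov (RingHom.id R) :=
  ⟨RingHom.FaithfullyFlat.of_bijective Function.bijective_id, RingHom.FinitePresentation.id R⟩

theorem IsCov.comp {S T : Type u} [CommRing S] [CommRing T] {φ : R →+* S} {ψ : S →+* T}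
    (hψ : IsCov ψ) (hφ : IsCov φ) : IsCov (ψ.comp φ) :=
  ⟨RingHom.FaithfullyFlat.stableUnderComposition φ ψ hφ.1 hψ.1, hψ.2.comp hφ.2⟩

omit hp in
theorem IsCov.nontrivial {S : Type u} [CommRing S] [Nontrivial R] {φ : R →+* S} (h : IsCov φ) :
    Nontrivial S := by
  refine not_subsingleton_iff_nontrivial.1 fun hs => ?_
  exact zero_ne_one (RingHom.FaithfullyFlat.injective h.1 (Subsingleton.elim (φ 0) (φ 1)))

theorem IsCov.charP {S : Type u} [CommRing S] [CharP R p] {φ : R →+* S} (h : IsCov φ) : CharP S p := by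
  haveI : Nontrivial R := CharP.nontrivial_of_char_ne_one hp.out.ne_one
  haveI := h.nontrivial
  refine (CharP.charP_iff_prime_eq_zero hp.out).2 ?_
  rw [← map_natCast φ, CharP.cast_eq_zero, map_zero]

/-- A cover with roots of given elements. -/
theorem exists_cov_roots (T : Finset R) :
    ∃ (R' : Type u) (_ : CommRing R') (φ : R →+* R'), IsCov φ ∧ ∀ t ∈ T, ∃ r, r ^ p = φ t := by
  classical
  induction T using Finset.induction_on with
  | empty => exact ⟨R, inferInstance, RingHom.id R, isCov_id, fun t ht => absurd ht (Finset.notMem_empty t)⟩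
  | insert t T ht ih =>
    obtain ⟨R₁, _, φ, hφ, hr⟩ := ih
    let q : Polynomial R₁ := Polynomial.X ^ p - Polynomial.C (φ t)
    have hmon : q.Monic := Polynomial.monic_X_pow_sub_C _ hp.out.ne_zero
    let ψ : R₁ →+* AdjoinRoot q := AdjoinRoot.of q
    haveI : Module.Free R₁ (AdjoinRoot q) := hmon.free_adjoinRoot
    haveI : Module.Finite R₁ (AdjoinRoot q) := hmon.finite_adjoinRoot
    have hψ : IsCov ψ := by
      refine ⟨?_, ?_⟩
      · rw [show ψ = algebraMap R₁ (AdjoinRoot q) from (AdjoinRoot.algebraMap_eq q).symm,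
          RingHom.faithfullyFlat_algebraMap_iff]
        rcases subsingleton_or_nontrivial R₁ with hs | hs
        · haveI : Subsingleton (AdjoinRoot q) := Module.subsingleton R₁ _
          exact { submodule_ne_top := fun m hm => absurd (Subsingleton.elim m ⊤) hm.ne_top }
        · haveI : Nonempty (Fin (AdjoinRoot.powerBasis' hmon).dim) := ⟨⟨0, by
            rw [AdjoinRoot.powerBasis'_dim, Polynomial.natDegree_X_pow_sub_C]
            exact hp.out.pos⟩⟩
          haveI : Nontrivial (AdjoinRoot q) :=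
            (AdjoinRoot.powerBasis' hmon).basis.repr.toEquiv.nontrivial
          infer_instance
      · rw [show ψ = algebraMap R₁ (AdjoinRoot q) from (AdjoinRoot.algebraMap_eq q).symm,
          RingHom.finitePresentation_algebraMap]
        exact inferInstanceAs (Algebra.FinitePresentation R₁ (AdjoinRoot q))
    refine ⟨AdjoinRoot q, inferInstance, ψ.comp φ, hψ.comp hφ, fun s hs => ?_⟩
    rcases Finset.mem_insert.1 hs with rfl | hs
    · refine ⟨AdjoinRoot.root q, ?_⟩
      have h0 : AdjoinRoot.mk q q = 0 := AdjoinRoot.mk_self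
      rw [map_sub, map_pow, AdjoinRoot.mk_X, AdjoinRoot.mk_C, sub_eq_zero] at h0
      exact h0
    · obtain ⟨r, hr'⟩ := hr s hs
      exact ⟨ψ r, by rw [← map_pow, hr']; rfl⟩

variable (R) in
/-- A cover with a map from the model ring. -/
structure Stage (m : ℕ) where
  /-- The cover. -/
  ring : Type u
  [commRing : CommRing ring]
  /-- The structure map. -/
  φ : R →+* ring
  cov : IsCov φ
  /-- The map from the model ring. -/
  u : MvPolynomial (Fin m) (ZMod p) →+* ring

attribute [instance] Stage.commRing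

variable [CharP R p] {m : ℕ}

theorem exists_next (s : Stage p R m) :
    ∃ (s' : Stage p R m) (ψ : s.ring →+* s'.ring), ψ.comp s.φ = s'.φ ∧
      ∀ a, ψ (s.u a) = s'.u (a ^ p) := by
  classical
  obtain ⟨R', _, ψ, hψ, hr⟩ := exists_cov_roots p
    (Finset.univ.image fun i => s.u (MvPolynomial.X i))
  haveI : CharP R' p := (hψ.comp s.cov).charP p
  choose r hr using fun i => hr (s.u (MvPolynomial.X i))
    (Finset.mem_image_of_mem _ (Finset.mem_univ i))
  refine ⟨{ ring := R', φ := ψ.comp s.φ, cov := hψ.comp s.cov,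
            u := MvPolynomial.eval₂Hom (ZMod.castHom dvd_rfl R') r }, ψ, rfl, fun a => ?_⟩
  have h : ψ.comp s.u = (MvPolynomial.eval₂Hom (ZMod.castHom dvd_rfl R') r).comp
      (frobenius (MvPolynomial (Fin m) (ZMod p)) p) := by
    refine MvPolynomial.ringHom_ext (fun c => ?_) fun i => ?_
    · exact DFunLike.congr_fun (RingHom.ext_zmod ((ψ.comp s.u).comp MvPolynomial.C)
        (((MvPolynomial.eval₂Hom (ZMod.castHom dvd_rfl R') r).comp
          (frobenius (MvPolynomial (Fin m) (ZMod p)) p)).comp MvPolynomial.C)) c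
    · rw [RingHom.comp_apply, RingHom.comp_apply, frobenius_def, map_pow,
        MvPolynomial.eval₂Hom_X', hr]
  exact DFunLike.congr_fun h a

variable (s₀ : Stage p R m)

/-- The tower. -/
def tower : ℕ → Stage p R m
  | 0 => s₀
  | n + 1 => (exists_next p (tower n)).choose

theorem tower_step (n : ℕ) :
    ∃ ψ : (tower p s₀ n).ring →+* (tower p s₀ (n + 1)).ring,
      ψ.comp (tower p s₀ n).φ = (tower p s₀ (n + 1)).φ ∧
      ∀ a, ψ ((tower p s₀ n).u a) = (tower p s₀ (n + 1)).u (a ^ p) :=
  (exists_next p (tower p s₀ n)).choose_spec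

/-- The kernels in the tower. -/
abbrev kerT (n : ℕ) : Ideal (MvPolynomial (Fin m) (ZMod p)) := RingHom.ker (tower p s₀ n).u

theorem frobenius_mem_kerT {n : ℕ} {a : MvPolynomial (Fin m) (ZMod p)} (ha : a ∈ kerT p s₀ n) :
    frobenius _ p a ∈ kerT p s₀ (n + 1) := by
  obtain ⟨ψ, -, hψ⟩ := tower_step p s₀ n
  rw [RingHom.mem_ker, frobenius_def, ← hψ, RingHom.mem_ker.1 ha, map_zero]

theorem iterate_mem_kerT {n : ℕ} {a : MvPolynomial (Fin m) (ZMod p)} (ha : a ∈ kerT p s₀ n) :
    ∀ l, (frobenius _ p)^[l] a ∈ kerT p s₀ (n + l)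
  | 0 => ha
  | l + 1 => by
    rw [Function.iterate_succ_apply']
    exact frobenius_mem_kerT p s₀ (iterate_mem_kerT ha l)

theorem iterateFrobenius_mem_kerT {n : ℕ} {a : MvPolynomial (Fin m) (ZMod p)} (ha : a ∈ kerT p s₀ n)
    (l : ℕ) : iterateFrobenius _ p l a ∈ kerT p s₀ (n + l) := by
  rw [coe_iterateFrobenius]
  exact iterate_mem_kerT p s₀ ha l

theorem u_iterateFrobenius (h0 : ∀ a, ∃ b, (tower p s₀ 0).φ b = (tower p s₀ 0).u a)
    (a : MvPolynomial (Fin m) (ZMod p)) :
    ∃ b, s₀.φ b = s₀.u a ∧ ∀ n, (tower p s₀ n).u (iterateFrobenius _ p n a) = (tower p s₀ n).φ b := by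
  obtain ⟨b, hb⟩ := h0 a
  refine ⟨b, hb, fun n => ?_⟩
  induction n with
  | zero =>
    rw [iterateFrobenius_def, pow_zero, pow_one]
    exact hb.symm
  | succ n ih =>
    obtain ⟨ψ, hφ, hψ⟩ := tower_step p s₀ n
    rw [iterateFrobenius_def] at ih
    rw [iterateFrobenius_def, pow_succ, pow_mul, ← hψ, ih, ← hφ]
    rfl

/-- The perfect closure of the model ring. -/
abbrev PInf (m : ℕ) : Type := PerfectClosure (MvPolynomial (Fin m) (ZMod p)) p

/-- The maps into the perfect closure. -/
def vMap (n : ℕ) : MvPolynomial (Fin m) (ZMod p) →+* PInf p m :=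
  ((iterateFrobeniusEquiv (PInf p m) p n).symm : PInf p m →+* PInf p m).comp
    (PerfectClosure.of (MvPolynomial (Fin m) (ZMod p)) p)

theorem vMap_apply (n : ℕ) (a : MvPolynomial (Fin m) (ZMod p)) :
    vMap p n a = PerfectClosure.mk _ p (n, a) := by
  apply (iterateFrobeniusEquiv (PInf p m) p n).injective
  rw [vMap, RingHom.comp_apply, RingEquiv.coe_toRingHom, RingEquiv.apply_symm_apply,
    iterateFrobeniusEquiv_apply, iterateFrobenius_def, PerfectClosure.of_apply,
    PerfectClosure.mk_pow]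
  rw [PerfectClosure.eq_iff]
  show (frobenius _ p)^[n] a = (frobenius _ p)^[0] (a ^ p ^ n)
  rw [← coe_iterateFrobenius, iterateFrobenius_def]
  rfl

theorem vMap_shift (n l : ℕ) (a : MvPolynomial (Fin m) (ZMod p)) :
    vMap p n a = vMap p (n + l) (iterateFrobenius _ p l a) := by
  rw [vMap_apply, vMap_apply, PerfectClosure.eq_iff, coe_iterateFrobenius]
  show (frobenius _ p)^[n + l] a = (frobenius _ p)^[n] ((frobenius _ p)^[l] a)
  rw [Function.iterate_add_apply]

/-- The ideal of the perfect closure cut out by the tower. -/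
def idealInf : Ideal (PInf p m) where
  carrier := { x | ∃ n, ∃ a ∈ kerT p s₀ n, x = vMap p n a }
  zero_mem' := ⟨0, 0, zero_mem _, (map_zero _).symm⟩
  add_mem' := by
    rintro x y ⟨n, a, ha, rfl⟩ ⟨l, b, hb, rfl⟩
    refine ⟨n + l, iterateFrobenius _ p l a + iterateFrobenius _ p n b, add_mem
      (iterateFrobenius_mem_kerT p s₀ ha l)
      (by rw [Nat.add_comm n l]; exact iterateFrobenius_mem_kerT p s₀ hb n), ?_⟩
    rw [map_add, ← vMap_shift, Nat.add_comm n l, ← vMap_shift]
  smul_mem' := by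
    rintro x y ⟨n, a, ha, rfl⟩
    obtain ⟨⟨l, c⟩, rfl⟩ := PerfectClosure.mk_surjective _ p x
    refine ⟨l + n, iterateFrobenius _ p n c * iterateFrobenius _ p l a,
      Ideal.mul_mem_left _ _ (by rw [Nat.add_comm l n]; exact iterateFrobenius_mem_kerT p s₀ ha l), ?_⟩
    rw [map_mul, ← vMap_shift, Nat.add_comm l n, ← vMap_shift, smul_eq_mul, vMap_apply p l]

theorem vMap_mem_idealInf {n : ℕ} {a : MvPolynomial (Fin m) (ZMod p)} (h : vMap p n a ∈ idealInf p s₀) :
    ∃ l, iterateFrobenius _ p l a ∈ kerT p s₀ (n + l) := by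
  obtain ⟨l, b, hb, h⟩ := h
  rw [vMap_apply, vMap_apply, PerfectClosure.eq_iff] at h
  refine ⟨l, ?_⟩
  rw [coe_iterateFrobenius, show (frobenius _ p)^[l] a = (frobenius _ p)^[n] b from h,
    ← coe_iterateFrobenius, Nat.add_comm n l]
  exact iterateFrobenius_mem_kerT p s₀ hb n

theorem idealInf_ne_top : idealInf p s₀ ≠ ⊤ := by
  intro h
  obtain ⟨l, hl⟩ := vMap_mem_idealInf p s₀ (n := 0) (a := 1) (by rw [map_one, h]; trivial)
  haveI : Nontrivial R := CharP.nontrivial_of_char_ne_one hp.out.ne_one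
  haveI := (tower p s₀ (0 + l)).cov.nontrivial
  rw [RingHom.mem_ker, map_one, map_one] at hl
  exact one_ne_zero hl

/-- The ring with surjective Frobenius over the tower. -/
abbrev QInf : Type := PInf p m ⧸ idealInf p s₀

/-- The maps into the ring with surjective Frobenius. -/
abbrev qMap (n : ℕ) : MvPolynomial (Fin m) (ZMod p) →+* QInf p s₀ :=
  (Ideal.Quotient.mk (idealInf p s₀)).comp (vMap p n)

instance charP_QInf : CharP (QInf p s₀) p := by
  haveI : Nontrivial (QInf p s₀) := Ideal.Quotient.nontrivial_iff.2 (idealInf_ne_top p s₀)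
  refine (CharP.charP_iff_prime_eq_zero hp.out).2 ?_
  rw [← map_natCast (Ideal.Quotient.mk (idealInf p s₀)), CharP.cast_eq_zero, map_zero]

theorem frobenius_QInf_surjective : Function.Surjective (frobenius (QInf p s₀) p) := by
  intro x
  obtain ⟨y, rfl⟩ := Ideal.Quotient.mk_surjective x
  obtain ⟨z, rfl⟩ := surjective_frobenius (PInf p m) p y
  exact ⟨Ideal.Quotient.mk _ z, by rw [frobenius_def, frobenius_def, map_pow]⟩

theorem qMap_eq_zero {n : ℕ} {a : MvPolynomial (Fin m) (ZMod p)} (h : (tower p s₀ n).u a = 0) :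
    qMap p s₀ n a = 0 :=
  Ideal.Quotient.eq_zero_iff_mem.2 ⟨n, a, RingHom.mem_ker.2 h, rfl⟩

theorem map_qMap_eq_zero {σ : Type} {n : ℕ} {D : MvPolynomial σ (MvPolynomial (Fin m) (ZMod p))}
    (h : MvPolynomial.map (qMap p s₀ n) D = 0) :
    ∃ l, MvPolynomial.map ((tower p s₀ (n + l)).u.comp (iterateFrobenius _ p l)) D = 0 := by
  classical
  have hc : ∀ e, ∃ l, iterateFrobenius _ p l (D.coeff e) ∈ kerT p s₀ (n + l) := fun e => by
    refine vMap_mem_idealInf p s₀ (Ideal.Quotient.eq_zero_iff_mem.1 ?_)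
    have := congrArg (MvPolynomial.coeff e) h
    rwa [MvPolynomial.coeff_map, MvPolynomial.coeff_zero] at this
  choose l hl using hc
  refine ⟨D.support.sup l, MvPolynomial.ext _ _ fun e => ?_⟩
  rw [MvPolynomial.coeff_map, MvPolynomial.coeff_zero, RingHom.comp_apply]
  by_cases he : e ∈ D.support
  · obtain ⟨d, hd⟩ := Nat.exists_eq_add_of_le (Finset.le_sup (f := l) he)
    rw [hd, Nat.add_comm (l e) d, iterateFrobenius_add_apply, Nat.add_comm d (l e), ← Nat.add_assoc]
    exact RingHom.mem_ker.1 (iterateFrobenius_mem_kerT p s₀ (hl e) d)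
  · rw [MvPolynomial.notMem_support_iff.1 he, map_zero, map_zero]

theorem exists_rep (f : Polynomial (QInf p s₀)) :
    ∃ N, ∀ n, N ≤ n → ∃ F : Polynomial (MvPolynomial (Fin m) (ZMod p)), F.map (qMap p s₀ n) = f := by
  induction f using Polynomial.induction_on' with
  | add f g hf hg =>
    obtain ⟨N, hN⟩ := hf
    obtain ⟨M, hM⟩ := hg
    refine ⟨N + M, fun n hn => ?_⟩
    obtain ⟨F, hF⟩ := hN n (le_trans (Nat.le_add_right _ _) hn)
    obtain ⟨G, hG⟩ := hM n (le_trans (Nat.le_add_left _ _) hn)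
    exact ⟨F + G, by rw [Polynomial.map_add, hF, hG]⟩
  | monomial k c =>
    obtain ⟨x, rfl⟩ := Ideal.Quotient.mk_surjective c
    obtain ⟨⟨N, a⟩, rfl⟩ := PerfectClosure.mk_surjective _ p x
    refine ⟨N, fun n hn => ?_⟩
    obtain ⟨d, rfl⟩ := Nat.exists_eq_add_of_le hn
    refine ⟨Polynomial.monomial k (iterateFrobenius _ p d a), ?_⟩
    rw [Polynomial.map_monomial, RingHom.comp_apply, ← vMap_shift, vMap_apply]


include p hp in
/-- Multiplicative cocycles split after a cover. -/
theorem exists_splitting_cover {h : MvPolynomial (Fin 2) R} (hu : IsUnit h)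
    (hc0 : MvPolynomial.constantCoeff h = 1) (hh : GaChar.IsMCoc h) :
    ∃ (R' : Type u) (_ : CommRing R') (φ : R →+* R'), IsCov φ ∧
      ∃ f : Polynomial R', IsUnit f ∧ GaChar.Sol f (MvPolynomial.map φ h) := by
  classical
  obtain ⟨g, hg⟩ := hu.exists_right_inv
  let S : Finset R := (h.support.image fun e => h.coeff e) ∪ (g.support.image fun e => g.coeff e)
  let k := S.equivFin
  let u₀ : MvPolynomial (Fin S.card) (ZMod p) →+* R :=
    MvPolynomial.eval₂Hom (ZMod.castHom dvd_rfl R) fun i => (k.symm i).1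
  let s₀ : Stage p R S.card := { ring := R, φ := RingHom.id R, cov := isCov_id, u := u₀ }
  have hlift : ∀ q : MvPolynomial (Fin 2) R, (∀ e ∈ q.support, q.coeff e ∈ S) →
      ∃ Q : MvPolynomial (Fin 2) (MvPolynomial (Fin S.card) (ZMod p)), MvPolynomial.map u₀ Q = q := by
    intro q hq
    refine ⟨∑ e ∈ q.support.attach,
      MvPolynomial.monomial e.1 (MvPolynomial.X (k ⟨_, hq e.1 e.2⟩)), ?_⟩
    rw [map_sum]
    conv_rhs => rw [q.as_sum, ← Finset.sum_attach]
    refine Finset.sum_congr rfl fun e _ => ?_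
    rw [MvPolynomial.map_monomial, MvPolynomial.eval₂Hom_X', Equiv.symm_apply_apply]
  obtain ⟨H, hH⟩ := hlift h fun e he => Finset.mem_union_left _ (Finset.mem_image_of_mem _ he)
  obtain ⟨G, hG⟩ := hlift g fun e he => Finset.mem_union_right _ (Finset.mem_image_of_mem _ he)
  have htr : ∀ {σ : Type} (D : MvPolynomial σ (MvPolynomial (Fin S.card) (ZMod p))),
      MvPolynomial.map u₀ D = 0 → MvPolynomial.map (qMap p s₀ 0) D = 0 := by
    intro σ D hD
    refine MvPolynomial.ext _ _ fun e => ?_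
    rw [MvPolynomial.coeff_map, MvPolynomial.coeff_zero]
    refine qMap_eq_zero p s₀ ?_
    have := congrArg (MvPolynomial.coeff e) hD
    rwa [MvPolynomial.coeff_map, MvPolynomial.coeff_zero] at this
  have heq : ∀ {σ : Type} (A B : MvPolynomial σ (MvPolynomial (Fin S.card) (ZMod p))),
      MvPolynomial.map u₀ A = MvPolynomial.map u₀ B →
        MvPolynomial.map (qMap p s₀ 0) A = MvPolynomial.map (qMap p s₀ 0) B := fun A B hAB =>
    sub_eq_zero.1 ((map_sub _ A B).symm.trans (htr _ (by rw [map_sub, hAB, sub_self])))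
  let hQ := MvPolynomial.map (qMap p s₀ 0) H
  have hQu : IsUnit hQ := IsUnit.of_mul_eq_one (MvPolynomial.map (qMap p s₀ 0) G) (by
    show MvPolynomial.map (qMap p s₀ 0) H * MvPolynomial.map (qMap p s₀ 0) G = 1
    rw [← map_mul]
    exact (heq (H * G) 1 (by rw [map_mul, hH, hG, hg, map_one])).trans (map_one _))
  have hQc : MvPolynomial.constantCoeff hQ = 1 := by
    rw [MvPolynomial.constantCoeff_map]
    refine sub_eq_zero.1 (((map_sub (qMap p s₀ 0) _ _).trans ?_).symm.trans
      (qMap_eq_zero p s₀ (a := MvPolynomial.constantCoeff H - 1) ?_))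
    · rw [map_one]
    · show u₀ _ = 0
      rw [map_sub, map_one, sub_eq_zero, ← MvPolynomial.constantCoeff_map, hH, hc0]
  have hQh : GaChar.IsMCoc hQ := by
    refine ⟨?_, ?_⟩
    · rw [← GaChar.map_mvAeval (qMap p s₀ 0) (![MvPolynomial.X 1, MvPolynomial.X 0] :
        Fin 2 → MvPolynomial (Fin 2) _) _ (fun i => by fin_cases i <;> simp)]
      refine heq _ _ ?_
      rw [GaChar.map_mvAeval u₀ _ (![MvPolynomial.X 1, MvPolynomial.X 0] :
        Fin 2 → MvPolynomial (Fin 2) R) (fun i => by fin_cases i <;> simp), hH]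
      exact hh.1
    · rw [← GaChar.map_mvAeval (qMap p s₀ 0) (σ := Fin 3) (![MvPolynomial.X 1, MvPolynomial.X 2] :
          Fin 2 → MvPolynomial (Fin 3) _) _ (fun i => by fin_cases i <;> simp),
        ← GaChar.map_mvAeval (qMap p s₀ 0) (σ := Fin 3) (![MvPolynomial.X 0, MvPolynomial.X 1 + MvPolynomial.X 2] :
          Fin 2 → MvPolynomial (Fin 3) _) _ (fun i => by fin_cases i <;> simp),
        ← GaChar.map_mvAeval (qMap p s₀ 0) (σ := Fin 3) (![MvPolynomial.X 0 + MvPolynomial.X 1, MvPolynomial.X 2] :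
          Fin 2 → MvPolynomial (Fin 3) _) _ (fun i => by fin_cases i <;> simp),
        ← GaChar.map_mvAeval (qMap p s₀ 0) (σ := Fin 3) (![MvPolynomial.X 0, MvPolynomial.X 1] :
          Fin 2 → MvPolynomial (Fin 3) _) _ (fun i => by fin_cases i <;> simp), ← map_mul, ← map_mul]
      refine heq _ _ ?_
      rw [map_mul, map_mul,
        GaChar.map_mvAeval u₀ (σ := Fin 3) _ (![MvPolynomial.X 1, MvPolynomial.X 2] :
          Fin 2 → MvPolynomial (Fin 3) R) (fun i => by fin_cases i <;> simp),
        GaChar.map_mvAeval u₀ (σ := Fin 3) _ (![MvPolynomial.X 0, MvPolynomial.X 1 + MvPolynomial.X 2] :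
          Fin 2 → MvPolynomial (Fin 3) R) (fun i => by fin_cases i <;> simp),
        GaChar.map_mvAeval u₀ (σ := Fin 3) _ (![MvPolynomial.X 0 + MvPolynomial.X 1, MvPolynomial.X 2] :
          Fin 2 → MvPolynomial (Fin 3) R) (fun i => by fin_cases i <;> simp),
        GaChar.map_mvAeval u₀ (σ := Fin 3) _ (![MvPolynomial.X 0, MvPolynomial.X 1] :
          Fin 2 → MvPolynomial (Fin 3) R) (fun i => by fin_cases i <;> simp), hH]
      exact hh.2
  obtain ⟨f, hf, hsol⟩ := GaChar.exists_splitting p (frobenius_QInf_surjective p s₀) hQu hQc hQh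
  obtain ⟨f', hf'⟩ := hf.exists_right_inv
  obtain ⟨N, hN⟩ := exists_rep p s₀ f
  obtain ⟨N', hN'⟩ := exists_rep p s₀ f'
  obtain ⟨F, hF⟩ := hN (N + N') (Nat.le_add_right _ _)
  obtain ⟨F', hF'⟩ := hN' (N + N') (Nat.le_add_left _ _)
  let n := N + N'
  let P := MvPolynomial (Fin S.card) (ZMod p)
  let Hn : MvPolynomial (Fin 2) P := MvPolynomial.map (iterateFrobenius P p n) H
  have hHn : MvPolynomial.map (qMap p s₀ n) Hn = hQ := by
    show _ = MvPolynomial.map (qMap p s₀ 0) H
    rw [MvPolynomial.map_map]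
    refine MvPolynomial.ext _ _ fun e => ?_
    rw [MvPolynomial.coeff_map, MvPolynomial.coeff_map, RingHom.comp_apply, RingHom.comp_apply,
      RingHom.comp_apply, vMap_shift p 0 n, Nat.zero_add]
  let D : MvPolynomial (Fin 2) P :=
    Polynomial.aeval (MvPolynomial.X 0 + MvPolynomial.X 1 : MvPolynomial (Fin 2) P) F -
      Polynomial.aeval (MvPolynomial.X 0 : MvPolynomial (Fin 2) P) F *
        Polynomial.aeval (MvPolynomial.X 1 : MvPolynomial (Fin 2) P) F * Hn
  obtain ⟨l, hl⟩ := map_qMap_eq_zero p s₀ (D := D) (n := n) (by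
    rw [map_sub, map_mul, map_mul, GaChar.map_aeval', GaChar.map_aeval', GaChar.map_aeval', map_add,
      MvPolynomial.map_X, MvPolynomial.map_X, hF, hHn, sub_eq_zero]
    exact hsol)
  let D' : MvPolynomial PUnit.{1} P :=
    Polynomial.aeval (MvPolynomial.X PUnit.unit : MvPolynomial PUnit.{1} P) (F * F' - 1)
  obtain ⟨l', hl'⟩ := map_qMap_eq_zero p s₀ (D := D') (n := n) (by
    have h1 : (F * F' - 1).map (qMap p s₀ n) = 0 := by
      rw [Polynomial.map_sub, Polynomial.map_mul, Polynomial.map_one, hF, hF', hf', sub_self]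
    have h2 : ∀ (q : Polynomial P), MvPolynomial.map (qMap p s₀ n)
        (Polynomial.aeval (MvPolynomial.X PUnit.unit : MvPolynomial PUnit.{1} P) q) =
        Polynomial.aeval (MvPolynomial.X PUnit.unit : MvPolynomial PUnit.{1} (QInf p s₀))
          (q.map (qMap p s₀ n)) := fun q => by
      induction q using Polynomial.induction_on' with
      | add a b ha hb => simp only [map_add, Polynomial.map_add, ha, hb]
      | monomial j c => simp
    rw [h2, h1, map_zero])
  let M := n + (l + l')
  let χ : ℕ → (P →+* (tower p s₀ M).ring) := fun d => (tower p s₀ M).u.comp (iterateFrobenius P p d)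
  have hmono : ∀ {σ : Type} (E : MvPolynomial σ P) (a b : ℕ), a + b = l + l' →
      MvPolynomial.map ((tower p s₀ (n + a)).u.comp (iterateFrobenius P p a)) E = 0 →
      MvPolynomial.map (χ (l + l')) E = 0 := by
    intro σ E a b hab hE
    refine MvPolynomial.ext _ _ fun e => ?_
    have h1 := congrArg (MvPolynomial.coeff e) hE
    rw [MvPolynomial.coeff_map, MvPolynomial.coeff_zero, RingHom.comp_apply] at h1
    have h2 := iterateFrobenius_mem_kerT p s₀ (RingHom.mem_ker.2 h1) b
    rw [Nat.add_assoc, hab, ← iterateFrobenius_add_apply, Nat.add_comm b a, hab] at h2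
    rw [MvPolynomial.coeff_map, MvPolynomial.coeff_zero, RingHom.comp_apply]
    exact RingHom.mem_ker.1 h2
  have hD := hmono D l l' rfl hl
  have hD' := hmono D' l' l (Nat.add_comm _ _) hl'
  have hHM : MvPolynomial.map (χ (l + l')) Hn = MvPolynomial.map (tower p s₀ M).φ h := by
    rw [MvPolynomial.map_map, ← hH, MvPolynomial.map_map]
    refine MvPolynomial.ext _ _ fun e => ?_
    rw [MvPolynomial.coeff_map, MvPolynomial.coeff_map, RingHom.comp_apply, RingHom.comp_apply,
      RingHom.comp_apply, ← iterateFrobenius_add_apply, Nat.add_comm (l + l') n]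
    obtain ⟨b, hb, hb'⟩ := u_iterateFrobenius p s₀ (fun a => ⟨u₀ a, rfl⟩) (MvPolynomial.coeff e H)
    rw [hb' M]
    exact congrArg _ hb
  refine ⟨(tower p s₀ M).ring, inferInstance, (tower p s₀ M).φ, (tower p s₀ M).cov,
    F.map (χ (l + l')), IsUnit.of_mul_eq_one (F'.map (χ (l + l'))) ?_, ?_⟩
  · rw [← Polynomial.map_mul, ← sub_eq_zero, ← Polynomial.map_one (χ (l + l')), ← Polynomial.map_sub]
    refine Polynomial.ext fun j => ?_
    have h1 := congrArg (MvPolynomial.coeff (Finsupp.single PUnit.unit j)) hD'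
    rw [MvPolynomial.coeff_map, MvPolynomial.coeff_zero] at h1
    rw [Polynomial.coeff_map, Polynomial.coeff_zero]
    refine Eq.trans (congrArg _ ?_) h1
    have h3 : ∀ q : Polynomial P, MvPolynomial.coeff (Finsupp.single PUnit.unit j)
        (Polynomial.aeval (MvPolynomial.X PUnit.unit : MvPolynomial PUnit.{1} P) q) = q.coeff j :=
      fun q => by
      induction q using Polynomial.induction_on' with
      | add a b ha hb => simp only [map_add, MvPolynomial.coeff_add, Polynomial.coeff_add, ha, hb]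
      | monomial i c =>
        rw [Polynomial.aeval_monomial, MvPolynomial.algebraMap_eq, MvPolynomial.coeff_C_mul,
          MvPolynomial.X_pow_eq_monomial, MvPolynomial.coeff_monomial, Polynomial.coeff_monomial]
        by_cases hij : i = j
        · subst hij; simp
        · rw [if_neg (fun h => hij (Finsupp.single_injective _ h)), if_neg hij, mul_zero]
    exact (h3 (F * F' - 1)).symm
  · unfold GaChar.Sol
    rw [← hHM, ← sub_eq_zero]
    refine Eq.trans ?_ hD
    rw [map_sub, map_mul, map_mul, GaChar.map_aeval', GaChar.map_aeval', GaChar.map_aeval', map_add,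
      MvPolynomial.map_X, MvPolynomial.map_X]

end Groth.Agent.GaExtP

end
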