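import Groth.Agent.GaExtP.Main
import Groth.Agent.GaExtP.Cover
import Groth.Agent.FppfPic.GaExt
import Groth.Agent.HomShH1.Core

/-!
# Local homomorphisms out of the additive group lift after a cover in characteristic `p`
-/

set_option autoImplicit false

universe u

open CategoryTheory CategoryTheory.Limits AlgebraicGeometry Opposite
open scoped CategoryTheory.MonObj

noncomputable section

namespace Groth.Agent.GaExtP.Loc

open Groth.Agent Groth.Agent.Adeq2Lib Groth.Agent.Adeq2Lib.AffVan Groth.Agent.FppfPic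
  Groth.Agent.GrpSchLib.GaPts Groth.Agent.HomShH1

variable {S : Scheme.{u}}

/-- The local homomorphisms. -/
abbrev homGa (G : AbT S) : AbT S :=
  HomSh.homSh (QuotSh.J Scheme.fppfPrecoverage S) (ga S) G

/-- A covering morphism of test objects. -/
def IsCover {T' T : Over S} (q : T' ⟶ T) : Prop :=
  Flat q.left ∧ Surjective q.left ∧ LocallyOfFinitePresentation q.left

theorem IsCover.comp {T'' T' T : Over S} {q : T' ⟶ T} {q' : T'' ⟶ T'} (h' : IsCover q')
    (h : IsCover q) : IsCover (q' ≫ q) := by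
  obtain ⟨_, _, _⟩ := h
  obtain ⟨_, _, _⟩ := h'
  refine ⟨?_, ?_, ?_⟩
  · show Flat (q'.left ≫ q.left); infer_instance
  · show Surjective (q'.left ≫ q.left); infer_instance
  · show LocallyOfFinitePresentation (q'.left ≫ q.left); infer_instance

variable {A A' : CommRingCat.{u}}

/-- The morphism of test objects of a map of rings. -/
abbrev qMor (φ : A →+* A') (a : Spec A ⟶ S) :
    Over.mk (Spec.map (CommRingCat.ofHom φ) ≫ a) ⟶ Over.mk a :=
  Over.homMk (Spec.map (CommRingCat.ofHom φ)) rfl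

theorem isCover_qMor {φ : A →+* A'} (h : IsCov φ) (a : Spec A ⟶ S) : IsCover (qMor φ a) := by
  obtain ⟨h1, h2⟩ := (flat_and_surjective_SpecMap_iff (CommRingCat.ofHom φ)).2 h.1
  refine ⟨h1, h2, ?_⟩
  show LocallyOfFinitePresentation (Spec.map (CommRingCat.ofHom φ))
  rw [HasRingHomProperty.Spec_iff (P := @LocallyOfFinitePresentation)]
  exact h.2

variable (a : Spec A ⟶ S)

/-- The point of the additive group of an element of an algebra. -/
def pt {C : Type u} [CommRing C] [Algebra A C] (c : C) : oB a C ⟶ Red.Ga S :=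
  ptOfFn (T := oB a C) ((Scheme.ΓSpecIso (CommRingCat.of C)).inv c)

theorem gaFn_pt {C : Type u} [CommRing C] [Algebra A C] (c : C) :
    Red.gaFn (pt a c) = (Scheme.ΓSpecIso (CommRingCat.of C)).inv c :=
  gaFn_ptOfFn _

theorem pt_add {C : Type u} [CommRing C] [Algebra A C] (c d : C) :
    pt a (c + d) = pt a c * pt a d :=
  gaFn_injective (by
    show Red.gaFn _ = Red.gaFn _
    rw [gaFn_mul, gaFn_pt, gaFn_pt, gaFn_pt]
    exact map_add _ c d)

theorem oMor_pt {C D : Type u} [CommRing C] [CommRing D] [Algebra A C] [Algebra A D]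
    (g : C →ₐ[A] D) (c : C) : oMor a g ≫ pt a c = pt a (g c) :=
  gaFn_injective (by
    show Red.gaFn _ = Red.gaFn _
    rw [gaFn_comp, gaFn_pt, gaFn_pt]
    exact (ConcreteCategory.congr_hom
      (Scheme.ΓSpecIso_inv_naturality (CommRingCat.ofHom g.toRingHom)) c).symm)

/-- The structure ring map of a test object. -/
def str {W : Over S} (f : W ⟶ Over.mk a) : A ⟶ Γ(W.left, ⊤) :=
  (Scheme.ΓSpecIso A).inv ≫ f.left.appTop

theorem exists_toB {C : Type u} [CommRing C] [Algebra A C] {W : Over S} (f : W ⟶ Over.mk a)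
    (θ : C →+* Γ(W.left, ⊤)) (hθ : θ.comp (algebraMap A C) = (str a f).hom) :
    ∃ g : W ⟶ oB a C, g ≫ GaExtP.pr a C = f ∧ ∀ c, Red.gaFn (g ≫ pt a c) = θ c := by
  let gl : W.left ⟶ Spec (CommRingCat.of C) := W.left.toSpecΓ ≫ Spec.map (CommRingCat.ofHom θ)
  have hgl : gl ≫ Spec.map (CommRingCat.ofHom (algebraMap A C)) = f.left := by
    show (W.left.toSpecΓ ≫ Spec.map _) ≫ Spec.map _ = f.left
    rw [Category.assoc, ← Spec.map_comp, ← CommRingCat.ofHom_comp]
    refine (congrArg (fun φ => W.left.toSpecΓ ≫ Spec.map (CommRingCat.ofHom φ)) hθ).trans ?_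
    rw [CommRingCat.ofHom_hom, str, Spec.map_comp]
    refine (Scheme.toSpecΓ_naturality_assoc f.left _).symm.trans ?_
    show f.left ≫ (Spec A).toSpecΓ ≫ _ = _
    rw [← SpecMap_ΓSpecIso_hom, ← Spec.map_comp, Iso.inv_hom_id, Spec.map_id]
    exact Category.comp_id _
  refine ⟨Over.homMk gl ?_, Over.OverMorphism.ext hgl, fun c => ?_⟩
  · show gl ≫ Spec.map _ ≫ a = W.hom
    rw [← Category.assoc, hgl]
    exact Over.w f
  · rw [gaFn_comp, gaFn_pt]
    show (W.left.toSpecΓ ≫ Spec.map (CommRingCat.ofHom θ)).appTop _ = _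
    rw [GmPts.appTop_comp_apply]
    have h1 : (Spec.map (CommRingCat.ofHom θ)).appTop ((Scheme.ΓSpecIso (CommRingCat.of C)).inv c) =
        (Scheme.ΓSpecIso _).inv (θ c) :=
      (ConcreteCategory.congr_hom (Scheme.ΓSpecIso_inv_naturality (CommRingCat.ofHom θ)) c).symm
    refine (congrArg _ h1).trans ?_
    rw [Scheme.toSpecΓ_appTop]
    exact ConcreteCategory.congr_hom (Scheme.ΓSpecIso Γ(W.left, ⊤)).inv_hom_id (θ c)

theorem toB_ext {W : Over S} (g g' : W ⟶ oB a (Polynomial A))
    (hpr : g ≫ GaExtP.pr a (Polynomial A) = g' ≫ GaExtP.pr a (Polynomial A))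
    (h : g ≫ pt a (Polynomial.X : Polynomial A) = g' ≫ pt a Polynomial.X) : g = g' := by
  refine Over.OverMorphism.ext ?_
  refine (ΓSpec.adjunction.homEquiv W.left (op (CommRingCat.of (Polynomial A)))).symm.injective ?_
  rw [Adjunction.homEquiv_counit, Adjunction.homEquiv_counit, ΓSpec.adjunction_counit_app]
  change ((Scheme.ΓSpecIso _).inv ≫ g.left.appTop).op = ((Scheme.ΓSpecIso _).inv ≫ g'.left.appTop).op
  congr 1
  refine CommRingCat.hom_ext (Polynomial.ringHom_ext (fun r => ?_) ?_)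
  · have e : ∀ k : W ⟶ oB a (Polynomial A), k.left.appTop
        ((Scheme.ΓSpecIso (CommRingCat.of (Polynomial A))).inv (Polynomial.C r)) =
          str a (k ≫ GaExtP.pr a (Polynomial A)) r := by
      intro k
      show _ = (k.left ≫ Spec.map _).appTop _
      rw [GmPts.appTop_comp_apply]
      exact congrArg _ (ConcreteCategory.congr_hom
        (Scheme.ΓSpecIso_inv_naturality (CommRingCat.ofHom (algebraMap A (Polynomial A)))) r)
    exact (e g).trans ((congrArg (fun k => str a k r) hpr).trans (e g').symm)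
  · have h2 := congrArg Red.gaFn h
    rw [gaFn_comp, gaFn_comp, gaFn_pt] at h2
    exact h2

variable {J Q : AbT S}

/-- The value of a local homomorphism at an element of an algebra. -/
abbrev yv (y : (homGa Q).obj.obj (op (Over.mk a))) {C : Type u} [CommRing C] [Algebra A C] (c : C) :
    Q.obj.obj (op (oB a C)) :=
  evAt y (GaExtP.pr a C) (gaSec (pt a c))

theorem yv_map (y : (homGa Q).obj.obj (op (Over.mk a))) {C D : Type u} [CommRing C] [CommRing D]
    [Algebra A C] [Algebra A D] (g : C →ₐ[A] D) (c : C) :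
    rA Q (oMor a g) (yv a y c) = yv a y (g c) := by
  refine (evAt_comp y (GaExtP.pr a C) (oMor a g) (gaSec (pt a c))).symm.trans ?_
  rw [evAt_congr y (oMor_pr a g)]
  exact congrArg (fun x => evAt y (GaExtP.pr a D) (gaSec x)) (oMor_pt a g c)

theorem yv_add (y : (homGa Q).obj.obj (op (Over.mk a))) {C : Type u} [CommRing C] [Algebra A C]
    (c d : C) : yv a y (c + d) = yv a y c + yv a y d := by
  show evAt y _ (gaSec (pt a (c + d))) = _
  rw [pt_add]
  exact map_add (evAt y (GaExtP.pr a C)) (gaSec (pt a c)) (gaSec (pt a d))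

/-- The value of a lift at an element of an algebra. -/
abbrev val (σ : J.obj.obj (op (oB a (Polynomial A)))) {C : Type u} [CommRing C] [Algebra A C] (c : C) :
    J.obj.obj (op (oB a C)) :=
  rA J (oMor a (Polynomial.aeval (R := A) c)) σ

theorem val_map (σ : J.obj.obj (op (oB a (Polynomial A)))) {C D : Type u} [CommRing C] [CommRing D]
    [Algebra A C] [Algebra A D] (g : C →ₐ[A] D) (c : C) :
    rA J (oMor a g) (val a σ c) = val a σ (g c) := by
  show rA J (oMor a g) (rA J _ σ) = rA J _ σ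
  rw [rA_comp, oMor_comp, ← Polynomial.aeval_algHom]

variable (E : GmExt J Q) (y : (homGa Q).obj.obj (op (Over.mk a)))
  (σ : J.obj.obj (op (oB a (Polynomial A))))

theorem πA_val (hσ : E.πA _ σ = yv a y (Polynomial.X : Polynomial A)) {C : Type u} [CommRing C]
    [Algebra A C] (c : C) : E.πA _ (val a σ c) = yv a y c := by
  rw [E.πA_map, hσ, yv_map, Polynomial.aeval_X]

theorem exists_defect (hσ : E.πA _ σ = yv a y (Polynomial.X : Polynomial A)) {C : Type u} [CommRing C]
    [Algebra A C] (c d : C) :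
    ∃ δ, E.iA (oB a C) δ = val a σ (c + d) - val a σ c - val a σ d := by
  refine (E.exact _ _).1 ?_
  show E.πA _ _ = 0
  rw [map_sub, map_sub, πA_val a E y σ hσ, πA_val a E y σ hσ, πA_val a E y σ hσ, yv_add]
  abel

/-- The universal ring of two variables. -/
abbrev MP (A : CommRingCat.{u}) : Type u := MvPolynomial (Fin 2) A

/-- The homomorphism from a split lift. -/
theorem exists_hom_of_split (hσ : E.πA _ σ = yv a y (Polynomial.X : Polynomial A))
    (δ : (gm S).obj.obj (op (oB a (MP A))))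
    (hδ : E.iA _ δ = val a σ ((MvPolynomial.X 0 : MP A) + MvPolynomial.X 1) -
      val a σ (MvPolynomial.X 0 : MP A) - val a σ (MvPolynomial.X 1 : MP A))
    (f : Polynomial A) (hf : IsUnit f) (hsol : GaChar.Sol f (toU a (MP A) δ).1) :
    ∃ τ : (homGa J).obj.obj (op (Over.mk a)), post E.π τ = y := by
  let σ' := σ - E.iA _ (secU a hf.unit)
  have hσ' : E.πA _ σ' = yv a y (Polynomial.X : Polynomial A) := by
    show E.πA _ (σ - _) = _
    rw [map_sub, E.πA_iA, sub_zero, hσ]
  have hadd : val a σ' ((MvPolynomial.X 0 : MP A) + MvPolynomial.X 1) =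
      val a σ' (MvPolynomial.X 0 : MP A) + val a σ' (MvPolynomial.X 1 : MP A) := by
    let w : MP A → (gm S).obj.obj (op (oB a (MP A))) := fun c =>
      rA (gm S) (oMor a (Polynomial.aeval (R := A) c)) (secU a hf.unit)
    have hv : ∀ c : MP A, val a σ' c = val a σ c - E.iA _ (w c) := fun c => by
      show rA J _ (σ - _) = rA J _ σ - _
      rw [map_sub, E.iA_map]
    have e : ∀ c : MP A, (toU a (MP A) (w c)).1 = Polynomial.aeval c f := fun c => by
      refine (toU_map _ _ _).trans ?_
      rw [toU_secU]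
      rfl
    have hs : w ((MvPolynomial.X 0 : MP A) + MvPolynomial.X 1) =
        w (MvPolynomial.X 0) + w (MvPolynomial.X 1) + δ := by
      refine toU_injective a (Units.ext ?_)
      rw [toU_add, toU_add, Units.val_mul, Units.val_mul, e, e, e]
      exact hsol
    rw [hv, hv, hv, hs, map_add, map_add, hδ]
    abel
  have hpt : ∀ (W : Over S) (k : W ⟶ Over.mk a) (x : W ⟶ Red.Ga S),
      ∃ g : W ⟶ oB a (Polynomial A), g ≫ GaExtP.pr a _ = k ∧ g ≫ pt a (Polynomial.X : Polynomial A) = x := by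
    intro W k x
    obtain ⟨g, hg, hg'⟩ := exists_toB a k (C := Polynomial A)
      (Polynomial.eval₂RingHom (str a k).hom (Red.gaFn x)) (RingHom.ext fun r => Polynomial.eval₂_C _ _)
    exact ⟨g, hg, gaFn_injective (by
      show Red.gaFn _ = Red.gaFn _
      rw [hg']
      exact Polynomial.eval₂_X _ _)⟩
  choose g hg hgx using hpt
  have hmul : ∀ (W : Over S) (k : W ⟶ Over.mk a) (x x' : W ⟶ Red.Ga S),
      rA J (g W k (x * x')) σ' = rA J (g W k x) σ' + rA J (g W k x') σ' := by
    intro W k x x'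
    obtain ⟨m, hm, hm'⟩ := exists_toB a k (C := MP A)
      (MvPolynomial.eval₂Hom (str a k).hom ![Red.gaFn x, Red.gaFn x'])
      (RingHom.ext fun r => MvPolynomial.eval₂Hom_C _ _ r)
    have h0 : m ≫ pt a (MvPolynomial.X 0 : MP A) = x := gaFn_injective (by
      show Red.gaFn _ = Red.gaFn _
      rw [hm']
      exact MvPolynomial.eval₂Hom_X' _ _ _)
    have h1 : m ≫ pt a (MvPolynomial.X 1 : MP A) = x' := gaFn_injective (by
      show Red.gaFn _ = Red.gaFn _
      rw [hm']
      exact MvPolynomial.eval₂Hom_X' _ _ _)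
    have hs : ∀ (c : MP A) (z : W ⟶ Red.Ga S), m ≫ pt a c = z →
        rA J (g W k z) σ' = rA J m (val a σ' c) := fun c z hz => by
      rw [rA_comp]
      refine congrArg (fun φ => rA J φ σ') (toB_ext a _ _ ?_ ?_)
      · rw [hg, Category.assoc, oMor_pr, hm]
      · rw [hgx, Category.assoc, oMor_pt, Polynomial.aeval_X, hz]
    rw [hs _ _ h0, hs _ _ h1, hs ((MvPolynomial.X 0 : MP A) + MvPolynomial.X 1) (x * x') (by
      rw [pt_add, MonObj.comp_mul, h0, h1]), hadd, map_add]
  let Φ : ∀ W : Over S, (W ⟶ Over.mk a) → ((ga S).obj.obj (op W) →+ J.obj.obj (op W)) := fun W k =>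
    AddMonoidHom.mk' (fun z => rA J (g W k (Additive.toMul (ULift.down z))) σ') fun z z' => hmul W k _ _
  refine ⟨ofNatural Φ fun {W W'} k v z => ?_, evAt_ext fun W k z => ?_⟩
  · show rA J (g W' (v ≫ k) (v ≫ Additive.toMul (ULift.down z))) σ' = rA J v (rA J _ σ')
    rw [rA_comp]
    refine congrArg (fun φ => rA J φ σ') (toB_ext a _ _ ?_ ?_)
    · rw [hg, Category.assoc, hg]
    · rw [hgx, Category.assoc, hgx]
  · show E.πA W (rA J (g W k (Additive.toMul (ULift.down z))) σ') = evAt y k z
    rw [E.πA_map, hσ']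
    refine (evAt_comp y _ _ _).symm.trans ?_
    rw [evAt_congr y (hg W k _)]
    exact congrArg (fun x => evAt y k (gaSec x)) (hgx W k (Additive.toMul (ULift.down z)))

/-- The morphism of algebras over two bases. -/
abbrev rMor (φ : A →+* A') {C C' : Type u} [CommRing C] [Algebra A C] [CommRing C'] [Algebra A' C']
    (ψ : C →+* C') (h : ψ.comp (algebraMap A C) = (algebraMap A' C').comp φ) :
    oB (Spec.map (CommRingCat.ofHom φ) ≫ a) C' ⟶ oB a C :=
  Over.homMk (Spec.map (CommRingCat.ofHom ψ)) (by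
    show Spec.map _ ≫ Spec.map _ ≫ a = Spec.map _ ≫ Spec.map _ ≫ a
    rw [← Category.assoc, ← Spec.map_comp, ← Category.assoc, ← Spec.map_comp]
    exact congrArg (fun w => Spec.map w ≫ a) (CommRingCat.hom_ext h))

theorem toU_rMor (φ : A →+* A') {C C' : Type u} [CommRing C] [Algebra A C] [CommRing C']
    [Algebra A' C'] (ψ : C →+* C') (h : ψ.comp (algebraMap A C) = (algebraMap A' C').comp φ)
    (z : (gm S).obj.obj (op (oB a C))) :
    (toU _ C' (rA (gm S) (rMor a φ ψ h) z)).1 = ψ (toU a C z).1 := by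
  show (Scheme.ΓSpecIso (CommRingCat.of C')).hom (gmVal (rA (gm S) (rMor a φ ψ h) z)).1 = _
  rw [gmVal_map]
  exact ConcreteCategory.congr_hom (Scheme.ΓSpecIso_naturality (CommRingCat.ofHom ψ)) (gmVal z).1

theorem yv_rMor (φ : A →+* A') {C C' : Type u} [CommRing C] [Algebra A C] [CommRing C'] [Algebra A' C']
    (ψ : C →+* C') (h : ψ.comp (algebraMap A C) = (algebraMap A' C').comp φ) (c : C) :
    rA Q (rMor a φ ψ h) (yv a y c) = yv _ (rA (homGa Q) (qMor φ a) y) (ψ c) := by
  refine (evAt_comp y (GaExtP.pr a C) (rMor a φ ψ h) (gaSec (pt a c))).symm.trans ?_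
  have e : rMor a φ ψ h ≫ GaExtP.pr a C = GaExtP.pr _ C' ≫ qMor φ a := Over.OverMorphism.ext (by
    show Spec.map _ ≫ Spec.map _ = Spec.map _ ≫ Spec.map _
    rw [← Spec.map_comp, ← Spec.map_comp]
    exact congrArg Spec.map (CommRingCat.hom_ext h))
  rw [evAt_congr y e]
  refine congrArg (fun x => evAt y (GaExtP.pr _ C' ≫ qMor φ a) (gaSec x)) ?_
  refine gaFn_injective ?_
  show Red.gaFn (rMor a φ ψ h ≫ pt a c) = Red.gaFn _
  rw [gaFn_comp, gaFn_pt, gaFn_pt]
  exact (ConcreteCategory.congr_hom (Scheme.ΓSpecIso_inv_naturality (CommRingCat.ofHom ψ)) c).symm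

variable (p : ℕ) [Fact p.Prime]

/-- A lift over the affine line gives a homomorphism after a cover. -/
theorem exists_hom_of_lift [CharP A p] (hσ : E.πA _ σ = yv a y (Polynomial.X : Polynomial A)) :
    ∃ (B : CommRingCat.{u}) (b : Spec B ⟶ S) (q : Over.mk b ⟶ Over.mk a), IsCover q ∧
      ∃ τ : (homGa J).obj.obj (op (Over.mk b)), post E.π τ = rA (homGa Q) q y := by
  choose δ hδ using fun (C : Type u) [CommRing C] [Algebra A C] (c d : C) =>
    exists_defect a E y σ hσ c d
  have u_map : ∀ {C D : Type u} [CommRing C] [CommRing D] [Algebra A C] [Algebra A D] (g : C →ₐ[A] D)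
      (c d : C), g (toU a C (δ C c d)).1 = (toU a D (δ D (g c) (g d))).1 := by
    intro C D _ _ _ _ g c d
    refine (toU_map a g (δ C c d)).symm.trans ?_
    refine congrArg (fun z => (toU a D z).1) (E.inj _ ?_)
    show E.iA _ _ = E.iA _ _
    rw [E.iA_map, hδ, hδ, map_sub, map_sub, val_map, val_map, val_map, map_add]
  let h : MP A := (toU a (MP A) (δ (MP A) (MvPolynomial.X 0) (MvPolynomial.X 1))).1
  have key : ∀ {C : Type u} [CommRing C] [Algebra A C] (v : Fin 2 → C),
      MvPolynomial.aeval v h = (toU a C (δ C (v 0) (v 1))).1 := by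
    intro C _ _ v
    rw [u_map, MvPolynomial.aeval_X, MvPolynomial.aeval_X]
  have hcoc : GaChar.IsMCoc h := by
    refine ⟨?_, ?_⟩
    · rw [key]
      simp only [Matrix.cons_val_zero, Matrix.cons_val_one]
      refine congrArg (fun z => (toU a (MP A) z).1) (E.inj _ ?_)
      show E.iA _ _ = E.iA _ _
      rw [hδ, hδ, add_comm (MvPolynomial.X 1 : MP A)]
      abel
    · rw [key, key, key, key]
      simp only [Matrix.cons_val_zero, Matrix.cons_val_one]
      rw [← Units.val_mul, ← Units.val_mul, ← toU_add, ← toU_add]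
      refine congrArg (fun z => (toU a _ z).1) (E.inj _ ?_)
      show E.iA _ _ = E.iA _ _
      rw [map_add, map_add, hδ, hδ, hδ, hδ, add_assoc (MvPolynomial.X 0 : MvPolynomial (Fin 3) A)]
      abel
  have hu : IsUnit h := (toU a (MP A) (δ (MP A) (MvPolynomial.X 0) (MvPolynomial.X 1))).isUnit
  obtain ⟨c, hc⟩ : IsUnit (MvPolynomial.constantCoeff h) := hu.map _
  let C₀ : MP A := MvPolynomial.C ((c⁻¹ : Aˣ) : A)
  obtain ⟨A₁, _, φ, hφ, f, hf, hsol⟩ := exists_splitting_cover p (h := h * C₀)
    (hu.mul ((c⁻¹).isUnit.map MvPolynomial.C))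
    (by rw [map_mul, MvPolynomial.constantCoeff_C, ← hc, Units.mul_inv])
    (hcoc.mul (show GaChar.IsMCoc C₀ from ⟨by simp [C₀], by simp [C₀]⟩))
  let B : CommRingCat.{u} := CommRingCat.of A₁
  let φB : A →+* B := φ
  let b : Spec B ⟶ S := Spec.map (CommRingCat.ofHom φB) ≫ a
  refine ⟨B, b, qMor φB a, isCover_qMor hφ a, ?_⟩
  let f₁ : Polynomial B := f * Polynomial.C (φB ((c⁻¹ : Aˣ) : A))
  have hf₁ : IsUnit f₁ := hf.mul (((c⁻¹).isUnit.map φB).map Polynomial.C)
  have hsol₁ : GaChar.Sol f₁ (MvPolynomial.map φB h) := by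
    have h2 : GaChar.Sol f (MvPolynomial.map φB (h * C₀)) := hsol
    unfold GaChar.Sol at h2 ⊢
    simp only [C₀, map_mul, MvPolynomial.map_C] at h2
    simp only [f₁, map_mul, Polynomial.aeval_C, MvPolynomial.algebraMap_eq]
    linear_combination (MvPolynomial.C (φB ((c⁻¹ : Aˣ) : A)) : MP B) * h2
  have hX : (Polynomial.mapRingHom φB).comp (algebraMap A (Polynomial A)) =
      (algebraMap B (Polynomial B)).comp φB := RingHom.ext fun r => Polynomial.map_C φB
  have hM : (MvPolynomial.map φB).comp (algebraMap A (MP A)) = (algebraMap B (MP B)).comp φB :=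
    RingHom.ext fun r => MvPolynomial.map_C φB r
  let σ' := rA J (rMor a φB (Polynomial.mapRingHom φB) hX) σ
  have hσ' : E.πA _ σ' = yv b (rA (homGa Q) (qMor φB a) y) (Polynomial.X : Polynomial B) := by
    show E.πA _ (rA J _ σ) = _
    rw [E.πA_map, hσ, yv_rMor]
    exact congrArg (fun w => yv b (rA (homGa Q) (qMor φB a) y) w) (Polynomial.map_X φB)
  have hval : ∀ (d : MP A), rA J (rMor a φB (MvPolynomial.map φB) hM) (val a σ d) =
      val b σ' (MvPolynomial.map φB d) := by
    intro d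
    show rA J _ (rA J _ σ) = rA J _ (rA J _ σ)
    rw [rA_comp, rA_comp]
    refine congrArg (fun w => rA J w σ) (Over.OverMorphism.ext ?_)
    show Spec.map _ ≫ Spec.map _ = Spec.map _ ≫ Spec.map _
    rw [← Spec.map_comp, ← Spec.map_comp]
    refine congrArg Spec.map (CommRingCat.hom_ext (Polynomial.ringHom_ext (fun r => ?_) ?_))
    · show MvPolynomial.map φB (Polynomial.aeval d (Polynomial.C r)) =
        Polynomial.aeval (MvPolynomial.map φB d) (Polynomial.map φB (Polynomial.C r))
      rw [Polynomial.map_C, Polynomial.aeval_C, Polynomial.aeval_C]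
      exact MvPolynomial.map_C φB r
    · show MvPolynomial.map φB (Polynomial.aeval d Polynomial.X) =
        Polynomial.aeval (MvPolynomial.map φB d) (Polynomial.map φB Polynomial.X)
      rw [Polynomial.map_X, Polynomial.aeval_X, Polynomial.aeval_X]
  refine exists_hom_of_split b E _ σ' hσ'
    (rA (gm S) (rMor a φB (MvPolynomial.map φB) hM) (δ (MP A) (MvPolynomial.X 0) (MvPolynomial.X 1)))
    ?_ f₁ hf₁ ?_
  · rw [E.iA_map, hδ, map_sub, map_sub, hval, hval, hval, map_add, MvPolynomial.map_X,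
      MvPolynomial.map_X]
  · rw [toU_rMor]
    exact hsol₁

/-- Local homomorphisms lift after a cover. -/
theorem exists_local_hom_lift [CharP A p] :
    ∃ (B : CommRingCat.{u}) (b : Spec B ⟶ S) (q : Over.mk b ⟶ Over.mk a), IsCover q ∧
      ∃ τ : (homGa J).obj.obj (op (Over.mk b)), post E.π τ = rA (homGa Q) q y := by
  have hps : p • yv a y (Polynomial.X : Polynomial A) = 0 := by
    have hn : ∀ n : ℕ, n • yv a y (Polynomial.X : Polynomial A) =
        yv a y (n • (Polynomial.X : Polynomial A)) := by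
      intro n
      induction n with
      | zero =>
        rw [zero_smul, zero_smul]
        have h0 := yv_add a y (0 : Polynomial A) 0
        rw [add_zero, left_eq_add] at h0
        exact h0.symm
      | succ n ih => rw [succ_nsmul, succ_nsmul, ih, yv_add]
    rw [hn, nsmul_eq_mul, CharP.cast_eq_zero (Polynomial A) p, zero_mul]
    refine Eq.trans (congrArg (fun w => yv a y w) (zero_smul ℕ (Polynomial.X : Polynomial A)).symm) ?_
    rw [← hn, zero_smul]
  obtain ⟨T, hT⟩ := exists_lift_after_roots p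
    (Spec.map (CommRingCat.ofHom (algebraMap A (Polynomial A))) ≫ a) E _ hps
  obtain ⟨A₁, _, φ, hφ, hr⟩ := exists_cov_roots p T
  haveI := hφ.charP p
  obtain ⟨σ₀, hσ₀⟩ := hT A₁ φ hr
  let B : CommRingCat.{u} := CommRingCat.of A₁
  let φB : A →+* B := φ
  haveI : CharP B p := ‹CharP A₁ p›
  let b : Spec B ⟶ S := Spec.map (CommRingCat.ofHom φB) ≫ a
  have hX : (Polynomial.mapRingHom φB).comp (algebraMap A (Polynomial A)) =
      (algebraMap B (Polynomial B)).comp φB := RingHom.ext fun r => Polynomial.map_C φB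
  let i₀ : oB b (Polynomial B) ⟶
      Over.mk (Spec.map (polyMap φ) ≫ Spec.map (CommRingCat.ofHom (algebraMap A (Polynomial A))) ≫ a) :=
    Over.homMk (𝟙 _) ((Category.id_comp _).trans
      (Over.w (rMor a φB (Polynomial.mapRingHom φB) hX)))
  obtain ⟨B', b', q, hq, τ, hτ⟩ := exists_hom_of_lift b E (rA (homGa Q) (qMor φB a) y)
    (rA J i₀ σ₀) p (by
      rw [E.πA_map, hσ₀, rA_comp]
      refine Eq.trans ?_ ((yv_rMor a y φB (Polynomial.mapRingHom φB) hX Polynomial.X).trans
        (congrArg (fun w => yv b (rA (homGa Q) (qMor φB a) y) w) (Polynomial.map_X φB)))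
      exact congrArg (fun w => rA Q w (yv a y (Polynomial.X : Polynomial A)))
        (Over.OverMorphism.ext (Category.id_comp _)))
  exact ⟨B', b', q ≫ qMor φB a, hq.comp (isCover_qMor hφ a), τ, hτ.trans (rA_comp _ _ _ _)⟩

end Groth.Agent.GaExtP.Loc

end
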