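import Groth.Agent.GaExtP.LocalHom
import Mathlib.Algebra.Homology.ShortComplex.Exact
import Mathlib.CategoryTheory.Abelian.RightDerived

/-!
# The first local Ext sheaf of the additive group by the multiplicative group in characteristic `p`
-/

set_option autoImplicit false

universe u

open CategoryTheory CategoryTheory.Limits AlgebraicGeometry Opposite TopologicalSpace

noncomputable section

namespace Groth.Agent.GaExtP

open Groth.Agent.Adeq2Lib Groth.Agent.Adeq2Lib.AffVan Groth.Agent.FppfPic Groth.Agent.HomShH1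
  Groth.Agent.GaExtP.Loc

variable {S : Scheme.{u}} (p : ℕ) [Fact p.Prime]

theorem imageSieve_post_mem (hp : (p : Γ(S, ⊤)) = 0) {J Q : AbT S} (E : GmExt J Q) (T : Over S)
    (y : (homGa Q).obj.obj (op T)) :
    ∀ (G : AbT S) (d : J ⟶ G) (j : Q ⟶ G), E.π ≫ j = d →
      Presheaf.imageSieve (HomSh.homShMap (QuotSh.J Scheme.fppfPrecoverage S) (𝟙 (ga S)) d).hom
        (post j y) ∈ QuotSh.J Scheme.fppfPrecoverage S T := by
  intro G d j hdj
  have hloc : ∀ x : T.left, ∃ (B : CommRingCat.{u}) (b : Spec B ⟶ S) (q : Over.mk b ⟶ T),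
      (x ∈ Set.range q.left) ∧ Pfppf q.left ∧
      ∃ τ : (homGa J).obj.obj (op (Over.mk b)), post E.π τ = rA (homGa Q) q y := by
    intro x
    obtain ⟨(U : T.left.Opens), hU, hxU, -⟩ :=
      Opens.isBasis_iff_nbhd.mp T.left.isBasis_affineOpens (Opens.mem_top x)
    obtain ⟨x₀, hx₀⟩ : x ∈ Set.range hU.fromSpec := by
      rw [IsAffineOpen.range_fromSpec]; exact hxU
    let A : CommRingCat.{u} := Γ(T.left, U)
    haveI : Nontrivial A := by
      refine not_subsingleton_iff_nontrivial.1 fun hs => ?_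
      exact (show PrimeSpectrum A from x₀).isPrime.ne_top
        (Ideal.eq_top_iff_one _ |>.2 (by rw [Subsingleton.elim (1 : A) 0]; exact zero_mem _))
    haveI : CharP A p := by
      refine (CharP.charP_iff_prime_eq_zero (Fact.out : p.Prime)).2 ?_
      rw [← map_natCast (T.hom.appLE ⊤ U le_top).hom p, hp, map_zero]
    let a : Spec A ⟶ S := hU.fromSpec ≫ T.hom
    let q₀ : Over.mk a ⟶ T := Over.homMk hU.fromSpec rfl
    obtain ⟨B, b, q, hq, τ, hτ⟩ := exists_local_hom_lift a E (rA (homGa Q) q₀ y) p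
    refine ⟨B, b, q ≫ q₀, ?_, ?_, τ, hτ.trans (rA_comp _ _ _ _)⟩
    · obtain ⟨z, hz⟩ := hq.2.1.surj x₀
      exact ⟨z, (congrArg hU.fromSpec hz).trans hx₀⟩
    · haveI := hq.1
      haveI := hq.2.2
      exact ⟨inferInstanceAs (Flat (q.left ≫ hU.fromSpec)),
        inferInstanceAs (LocallyOfFinitePresentation (q.left ≫ hU.fromSpec))⟩
  choose B b q hxq hPq τ hτ using hloc
  refine GrothendieckTopology.superset_covering _
    (S := Sieve.ofArrows (fun x => Over.mk (b x)) q) ?_ ?_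
  · rintro W g ⟨_, h, _, ⟨x⟩, rfl⟩
    refine ⟨rA (homGa J) h (τ x), evAt_ext fun W' f z => ?_⟩
    show sMap d W' (evAt (rA (homGa J) h (τ x)) f z) = sMap j W' (evAt y (f ≫ h ≫ q x) z)
    rw [← hdj]
    show sMap j W' (sMap E.π W' (evAt (τ x) (f ≫ h) z)) = _
    rw [← evAt_post, hτ]
    exact congrArg (sMap j W') (evAt_congr y (Category.assoc _ _ _) z)
  · show Sieve.overEquiv T (Sieve.ofArrows (fun x => Over.mk (b x)) q) ∈
      Scheme.fppfPrecoverage.toGrothendieck T.left
    rw [Sieve.overEquiv_ofArrows]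
    refine Precoverage.generate_mem_toGrothendieck
      (J := Scheme.precoverage (Pfppf : MorphismProperty Scheme.{u})) ?_
    rw [Scheme.ofArrows_mem_precoverage_iff]
    exact ⟨fun x => ⟨x, hxq x⟩, fun x => hPq x⟩

theorem isZero_extSh_of_exact {C : Type (u + 1)} [Category.{u} C] (J : GrothendieckTopology C)
    [HasSheafify J AddCommGrpCat.{u + 1}]
    [HasInjectiveResolutions (Sheaf J AddCommGrpCat.{u + 1})]
    (F : Sheaf J AddCommGrpCat.{u + 1}) {M : Sheaf J AddCommGrpCat.{u + 1}} (R : InjectiveResolution M)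
    (hex : (((HomSh.homShFunctor J F).mapHomologicalComplex (ComplexShape.up ℕ)).obj R.cocomplex |>.sc'
      0 1 2).Exact) :
    IsZero ((HomSh.extSh J F 1).obj M) := by
  let cx := ((HomSh.homShFunctor J F).mapHomologicalComplex (ComplexShape.up ℕ)).obj R.cocomplex
  have hz : IsZero (cx.homology 1) := by
    refine (cx.exactAt_iff_isZero_homology 1).1 ?_
    rw [HomologicalComplex.exactAt_iff' cx 0 1 2 (by simp) (by simp)]
    exact hex
  rw [HomSh.extSh_def]
  exact hz.of_iso (R.isoRightDerivedObj (HomSh.homShFunctor J F) 1)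

theorem isZero_extSh_one (hp : (p : Γ(S, ⊤)) = 0) :
    IsZero ((HomSh.extSh (QuotSh.J Scheme.fppfPrecoverage S) (ga S) 1).obj (gm S)) := by
  let R := injectiveResolution (gm S)
  let Fn := HomSh.homShFunctor (QuotSh.J Scheme.fppfPrecoverage S) (ga S)
  let cx := (Fn.mapHomologicalComplex (ComplexShape.up ℕ)).obj R.cocomplex
  suffices hex : (cx.sc' 0 1 2).Exact from isZero_extSh_of_exact _ _ R hex
  let d₀ := R.cocomplex.d 0 1
  let d₁ := R.cocomplex.d 1 2
  let Z := kernel d₁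
  let π₀ : R.cocomplex.X 0 ⟶ Z := kernel.lift d₁ d₀ (R.cocomplex.d_comp_d 0 1 2)
  haveI hπ₀ : Epi π₀ :=
    (ShortComplex.exact_iff_epi_kernel_lift (ShortComplex.mk d₀ d₁ (R.cocomplex.d_comp_d 0 1 2))).1
      (R.exact_succ 0)
  let ι₀ : gm S ⟶ R.cocomplex.X 0 := R.ι.f 0
  have hw : ι₀ ≫ π₀ = 0 := by
    rw [← cancel_mono (kernel.ι d₁), Category.assoc, kernel.lift_ι, zero_comp]
    exact R.ι_f_zero_comp_complex_d
  have hE : (ShortComplex.mk ι₀ π₀ hw).ShortExact := by
    haveI : Mono (ShortComplex.mk ι₀ π₀ hw).f := (inferInstance : Mono (R.ι.f 0))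
    haveI : Epi (ShortComplex.mk ι₀ π₀ hw).g := hπ₀
    refine ShortComplex.ShortExact.mk ?_
    let φ : ShortComplex.mk ι₀ π₀ hw ⟶ ShortComplex.mk ι₀ d₀ R.ι_f_zero_comp_complex_d :=
      { τ₁ := 𝟙 _, τ₂ := 𝟙 _, τ₃ := kernel.ι d₁
        comm₁₂ := by simp
        comm₂₃ := by
          show 𝟙 _ ≫ d₀ = π₀ ≫ kernel.ι d₁
          rw [Category.id_comp, kernel.lift_ι] }
    haveI : Epi φ.τ₁ := inferInstanceAs (Epi (𝟙 _))
    haveI : IsIso φ.τ₂ := inferInstanceAs (IsIso (𝟙 _))
    haveI : Mono φ.τ₃ := inferInstanceAs (Mono (kernel.ι d₁))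
    exact (ShortComplex.exact_iff_of_epi_of_isIso_of_mono φ).2 R.exact₀
  let E : GmExt (R.cocomplex.X 0) Z := GmExt.ofShortExact hE (Iso.refl _)
  have hkill : ∀ (W : Over S) (v : (R.cocomplex.X 1).obj.obj (op W)), sMap d₁ W v = 0 →
      ∃ w, sMap (kernel.ι d₁) W w = v := by
    intro W v hv
    haveI : (secA W).Additive := ⟨fun {_ _ _ _} => rfl⟩
    haveI : PreservesFiniteLimits (secA W) := inferInstance
    let K : ShortComplex (AbT S) := ShortComplex.mk (kernel.ι d₁) d₁ (kernel.condition _)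
    exact (K.map (secA W)).ab_exact_iff.1
      ((ShortComplex.exact_of_f_is_kernel K (kernelIsKernel d₁)).map_of_mono_of_preservesKernel
        (secA W) inferInstance inferInstance) v hv
  have hinj : ∀ W, Function.Injective (sMap (kernel.ι d₁) W) := fun W => by
    haveI : PreservesFiniteLimits (secA W) := inferInstance
    exact (AddCommGrpCat.mono_iff_injective ((secA W).map (kernel.ι d₁))).1 inferInstance
  rw [ShortComplex.exact_iff_epi_kernel_lift]
  refine (Sheaf.isLocallySurjective_iff_epi' (A := AddCommGrpCat.{u + 1}) _).1 ⟨fun {T} w => ?_⟩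
  let z : (homGa (R.cocomplex.X 1)).obj.obj (op T) := sMap (kernel.ι (cx.sc' 0 1 2).g) T w
  have hz0 : sMap (cx.sc' 0 1 2).g T z = 0 :=
    ConcreteCategory.congr_hom
      (congrArg (fun φ : kernel (cx.sc' 0 1 2).g ⟶ (cx.sc' 0 1 2).X₃ => φ.hom.app (op T))
        (kernel.condition (cx.sc' 0 1 2).g)) w
  have hz : ∀ (W : Over S) (f : W ⟶ T) (x : (ga S).obj.obj (op W)), sMap d₁ W (evAt z f x) = 0 :=
    fun W f x => congrArg (fun φ : (homGa (R.cocomplex.X 2)).obj.obj (op T) => evAt φ f x) hz0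
  choose m hm using fun W f x => hkill W _ (hz W f x)
  let y : (homGa Z).obj.obj (op T) := ofNatural
    (fun W f => AddMonoidHom.mk' (m W f) fun x x' => hinj W (by
      rw [map_add, hm, hm, hm, map_add]))
    (fun {W W'} f v x => hinj W' (by
      show sMap _ W' (m W' _ _) = sMap _ W' (res Z v (m W f x))
      rw [sMap_res, hm, hm, evAt_comp]))
  have hy : post (kernel.ι d₁) y = z := evAt_ext fun W f x => hm W f x
  have hmem := imageSieve_post_mem p hp E T y (R.cocomplex.X 1) d₀ (kernel.ι d₁) (kernel.lift_ι _ _ _)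
  rw [hy] at hmem
  refine GrothendieckTopology.superset_covering _ ?_ hmem
  rintro W g ⟨τ, hτ⟩
  refine ⟨τ, ?_⟩
  haveI : Mono ((secA W).map (kernel.ι (cx.sc' 0 1 2).g)) := by
    haveI : PreservesFiniteLimits (secA W) := inferInstance
    infer_instance
  refine (AddCommGrpCat.mono_iff_injective ((secA W).map (kernel.ι (cx.sc' 0 1 2).g))).1
    inferInstance ?_
  refine (ConcreteCategory.congr_hom (congrArg
    (fun φ : (cx.sc' 0 1 2).X₁ ⟶ (cx.sc' 0 1 2).X₂ => φ.hom.app (op W))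
    (kernel.lift_ι (cx.sc' 0 1 2).g (cx.sc' 0 1 2).f (cx.sc' 0 1 2).zero)) τ).trans ?_
  exact hτ.trans (sMap_res (kernel.ι (cx.sc' 0 1 2).g) g w).symm

end Groth.Agent.GaExtP

end
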